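import Mathlib.RingTheory.Smooth.Basic
import Mathlib.RingTheory.Kaehler.Polynomial
import Mathlib.RingTheory.Nullstellensatz
import Mathlib.FieldTheory.IsAlgClosed.AlgebraicClosure
import Mathlib.RingTheory.FinitePresentation

/-! The Jacobian criterion for an affine hypersurface over a field. -/

universe u v

open scoped TensorProduct
open MvPolynomial

namespace Groth.Agent.HypSmoothLib

variable {k : Type u} [Field k] {σ : Type v} [Fintype σ]

theorem D_eq_sum (g : MvPolynomial σ k) :
    KaehlerDifferential.D k (MvPolynomial σ k) g =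
      ∑ i, pderiv i g • KaehlerDifferential.D k (MvPolynomial σ k) (X i) := by
  conv_lhs => rw [← (KaehlerDifferential.mvPolynomialBasis k σ).sum_repr (KaehlerDifferential.D k _ g)]
  simp

theorem smooth_quotient_iff_span_eq_top {f : MvPolynomial σ k} (hf : f ≠ 0) :
    Algebra.Smooth k (MvPolynomial σ k ⧸ Ideal.span {f}) ↔
      Ideal.span ({f} ∪ Set.range fun i => pderiv i f) = ⊤ := by
  set J : Ideal (MvPolynomial σ k) := Ideal.span {f}
  set S : Ideal (MvPolynomial σ k) := Ideal.span ({f} ∪ Set.range fun i => pderiv i f)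
  have hsurj : Function.Surjective (algebraMap (MvPolynomial σ k) ((MvPolynomial σ k) ⧸ J)) := Ideal.Quotient.mk_surjective
  have hker : RingHom.ker (algebraMap (MvPolynomial σ k) ((MvPolynomial σ k) ⧸ J)) = J := Ideal.mk_ker
  set I := RingHom.ker (algebraMap (MvPolynomial σ k) ((MvPolynomial σ k) ⧸ J))
  have hfI : f ∈ I := hker ▸ Ideal.mem_span_singleton_self f
  haveI : Algebra.FinitePresentation k ((MvPolynomial σ k) ⧸ J) :=
    Algebra.FinitePresentation.quotient ⟨{f}, by rw [Finset.coe_singleton]⟩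
  have hz : ∀ (a : (MvPolynomial σ k)) (x : I), a ∈ I → a • I.toCotangent x = 0 := fun a x ha => by
    rw [← map_smul, Ideal.toCotangent_eq_zero, sq]
    exact Ideal.mul_mem_mul ha x.2
  constructor
  · intro h
    obtain ⟨l, hl⟩ := (Algebra.FormallySmooth.iff_split_injection (R := k) (P := MvPolynomial σ k) hsurj).1 h.formallySmooth
    have hc : ∀ i, ∃ c : (MvPolynomial σ k), l (1 ⊗ₜ KaehlerDifferential.D k (MvPolynomial σ k) (X i)) = c • I.toCotangent ⟨f, hfI⟩ := fun i => by
      obtain ⟨x, hx⟩ := I.toCotangent_surjective (l (1 ⊗ₜ KaehlerDifferential.D k (MvPolynomial σ k) (X i)))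
      obtain ⟨c, hcx⟩ := Ideal.mem_span_singleton'.1 ((hker ▸ x.2 : x.1 ∈ J))
      exact ⟨c, by rw [← hx, ← map_smul]; congr 1; exact Subtype.ext hcx.symm⟩
    choose c hc using hc
    have h1 := LinearMap.congr_fun hl (I.toCotangent ⟨f, hfI⟩)
    rw [LinearMap.comp_apply, LinearMap.id_apply, KaehlerDifferential.kerCotangentToTensor_toCotangent,
      D_eq_sum, TensorProduct.tmul_sum, map_sum] at h1
    simp only [TensorProduct.tmul_smul, map_smul, hc, smul_smul] at h1
    rw [← Finset.sum_smul, ← map_smul, Ideal.toCotangent_eq, SetLike.val_smul] at h1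
    simp only [smul_eq_mul, hker, J, Ideal.span_singleton_pow] at h1
    obtain ⟨a, ha⟩ := Ideal.mem_span_singleton'.1 h1
    have h2 : a * f = (∑ i, pderiv i f * c i) - 1 := mul_right_cancel₀ hf (by linear_combination ha)
    have h3 : (1 : (MvPolynomial σ k)) = (∑ i, pderiv i f * c i) - a * f := by rw [h2, sub_sub_cancel]
    rw [Ideal.eq_top_iff_one, h3]
    exact sub_mem (Ideal.sum_mem _ fun i _ => S.mul_mem_right _ (Ideal.subset_span (Or.inr ⟨i, rfl⟩)))
      (S.mul_mem_left _ (Ideal.subset_span (Or.inl rfl)))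
  · intro h
    have h1 : (1 : (MvPolynomial σ k)) ∈ S := h ▸ Submodule.mem_top
    rw [show S = Ideal.span {f} ⊔ Ideal.span (Set.range fun i => pderiv i f) from Ideal.span_union _ _,
      Submodule.mem_sup] at h1
    obtain ⟨y, hy, z, hz', hyz⟩ := h1
    obtain ⟨c, hc⟩ := (Ideal.mem_span_range_iff_exists_fun).1 hz'
    refine ⟨(Algebra.FormallySmooth.iff_split_injection (R := k) (P := MvPolynomial σ k) hsurj).2 ?_, inferInstance⟩
    let g : Ω[(MvPolynomial σ k)⁄k] →ₗ[(MvPolynomial σ k)] I.Cotangent :=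
      (KaehlerDifferential.mvPolynomialBasis k σ).constr (MvPolynomial σ k) fun i => c i • I.toCotangent ⟨f, hfI⟩
    have hg : g (KaehlerDifferential.D k (MvPolynomial σ k) f) = I.toCotangent ⟨f, hfI⟩ := by
      rw [D_eq_sum, map_sum]
      simp only [map_smul, ← KaehlerDifferential.mvPolynomialBasis_apply, g, Module.Basis.constr_basis, smul_smul]
      rw [← Finset.sum_smul, show ∑ i, pderiv i f * c i = z by rw [← hc]; exact Finset.sum_congr rfl fun i _ => mul_comm _ _,
        eq_sub_of_add_eq' hyz, sub_smul, one_smul, hz y _ (hker ▸ hy), sub_zero]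
    have hker' : J ≤ LinearMap.ker ((LinearMap.id (R := (MvPolynomial σ k)) (M := (MvPolynomial σ k))).smulRight g) := fun a ha => by
      refine LinearMap.mem_ker.2 (LinearMap.ext fun w => ?_)
      obtain ⟨x, hx⟩ := I.toCotangent_surjective (g w)
      simp only [LinearMap.smulRight_apply, LinearMap.id_apply, LinearMap.smul_apply, LinearMap.zero_apply]
      rw [← hx, hz a x (hker ▸ ha)]
    refine ⟨TensorProduct.lift (Submodule.liftQ J _ hker'), LinearMap.ext fun t => ?_⟩
    obtain ⟨⟨x, hx⟩, rfl⟩ := I.toCotangent_surjective t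
    obtain ⟨a, rfl⟩ := Ideal.mem_span_singleton'.1 (hker ▸ hx : x ∈ J)
    rw [LinearMap.comp_apply, LinearMap.id_apply, KaehlerDifferential.kerCotangentToTensor_toCotangent,
      TensorProduct.lift.tmul, show (1 : (MvPolynomial σ k) ⧸ J) = Submodule.Quotient.mk 1 from rfl, Submodule.liftQ_apply]
    simp only [LinearMap.smulRight_apply, LinearMap.id_apply, one_smul, Derivation.leibniz, map_add, map_smul]
    obtain ⟨x, hx'⟩ := I.toCotangent_surjective (g (KaehlerDifferential.D k (MvPolynomial σ k) a))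
    rw [← hx', hz f x hfI, add_zero, hg, ← map_smul]
    rfl

theorem span_eq_top_iff_no_common_zero (S : Set (MvPolynomial σ k)) :
    Ideal.span S = ⊤ ↔ ∀ x : σ → AlgebraicClosure k, ∃ p ∈ S, aeval x p ≠ 0 := by
  constructor
  · intro h x
    by_contra hc
    push Not at hc
    have : Ideal.span S ≤ RingHom.ker (aeval x).toRingHom := Ideal.span_le.2 fun p hp => hc p hp
    have h1 := this (h ▸ Submodule.mem_top : (1 : MvPolynomial σ k) ∈ Ideal.span S)
    simp at h1
  · intro h
    have he : zeroLocus (AlgebraicClosure k) (Ideal.span S) = ∅ := by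
      refine Set.eq_empty_of_forall_notMem fun x hx => ?_
      obtain ⟨p, hp, hne⟩ := h x
      exact hne (hx p (Ideal.subset_span hp))
    have h1 := vanishingIdeal_zeroLocus_eq_radical (K := AlgebraicClosure k) (Ideal.span S)
    rw [he] at h1
    refine Ideal.radical_eq_top.1 (h1.symm.trans (eq_top_iff.2 fun p _ => ?_))
    exact fun x hx => absurd hx (Set.notMem_empty x)

/-- Jacobian criterion: `k[X]/(f)` is smooth iff `f` and its partial derivatives have no common
zero over an algebraic closure. -/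
theorem smooth_quotient_iff_no_singular_zero {f : MvPolynomial σ k} (hf : f ≠ 0) :
    Algebra.Smooth k (MvPolynomial σ k ⧸ Ideal.span {f}) ↔
      ∀ x : σ → AlgebraicClosure k, aeval x f = 0 → ∃ i, aeval x (pderiv i f) ≠ 0 := by
  rw [smooth_quotient_iff_span_eq_top hf, span_eq_top_iff_no_common_zero]
  refine forall_congr' fun x => ⟨fun ⟨p, hp, hne⟩ h0 => ?_, fun h => ?_⟩
  · rcases hp with rfl | ⟨i, rfl⟩
    · exact absurd h0 hne
    · exact ⟨i, hne⟩
  · by_cases h0 : aeval x f = 0
    · obtain ⟨i, hi⟩ := h h0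
      exact ⟨_, Or.inr ⟨i, rfl⟩, hi⟩
    · exact ⟨f, Or.inl rfl, h0⟩

end Groth.Agent.HypSmoothLib
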